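import Groth.Prelude.Def_ModSite
import Groth.Prelude.Def_AlgSpPerf
import Mathlib.CategoryTheory.Abelian.Basic
import Mathlib.CategoryTheory.Idempotents.Basic
import Mathlib.RingTheory.Finiteness.Basic
import Mathlib.Algebra.Module.Projective
import Mathlib.LinearAlgebra.Pi
import Mathlib.Algebra.Category.ModuleCat.Basic

/-! Summands of finite free modules on a site with a final object. -/

set_option autoImplicit false
set_option backward.defeqAttrib.useBackward true
set_option backward.isDefEq.respectTransparency false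

universe u

open CategoryTheory CategoryTheory.Limits Opposite

noncomputable section

namespace Groth.L10.GlobalSummand

variable {C : Type u} [SmallCategory C] {J : GrothendieckTopology C} {O : Sheaf J CommRingCat.{u}}
  {X : C} (hX : IsTerminal X)

/-- The ring of global sections. -/
abbrev R0 (O : Sheaf J CommRingCat.{u}) (X : C) : RingCat.{u} := (ModSite.ringSh O).obj.obj (op X)

/-- The free module on `n` generators. -/
abbrev P (O : Sheaf J CommRingCat.{u}) (n : ℕ) : ModSite.Mod O :=
  SheafOfModules.free (R := ModSite.ringSh O) (ULift.{u} (Fin n))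

variable (X) in
/-- The value at `X` of a morphism. -/
abbrev appX {M N : ModSite.Mod O} (f : M ⟶ N) :
    M.val.obj (op X) →ₗ[(R0 O X)] N.val.obj (op X) := (f.val.app (op X)).hom

theorem appX_comp {M N L : ModSite.Mod O} (f : M ⟶ N) (g : N ⟶ L) (x : M.val.obj (op X)) :
    appX X (f ≫ g) x = appX X g (appX X f x) := rfl

variable (X) in
/-- The generators. -/
def gen {n : ℕ} (i : ULift.{u} (Fin n)) : (P O n).val.obj (op X) :=
  (SheafOfModules.freeSection (R := ModSite.ringSh O) i).1 (op X)

/-- A section with given value at the final object. -/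
def sec (M : ModSite.Mod O) (x : M.val.obj (op X)) : M.sections :=
  PresheafOfModules.sectionsMk (fun Z => M.val.map (hX.from Z.unop).op x) fun Z W f => by
    rw [show (hX.from W.unop).op = (hX.from Z.unop).op ≫ f from
      Quiver.Hom.unop_inj (hX.hom_ext _ _)]
    exact (congr($(M.val.presheaf.map_comp (hX.from Z.unop).op f) x)).symm

include hX in
theorem sections_ext {M : ModSite.Mod O} (s t : M.sections) (h : s.1 (op X) = t.1 (op X)) : s = t :=
  PresheafOfModules.sections_ext _ _ fun Z =>
    (s.2 (hX.from Z.unop).op).symm.trans ((congrArg _ h).trans (t.2 (hX.from Z.unop).op))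

theorem sec_val (M : ModSite.Mod O) (x : M.val.obj (op X)) : (sec hX M x).1 (op X) = x := by
  change M.val.presheaf.map (hX.from X).op x = x
  rw [hX.from_self, op_id, M.val.presheaf.map_id]
  rfl

variable {n : ℕ}

theorem appX_gen {M : ModSite.Mod O} (f : P O n ⟶ M) (i : ULift.{u} (Fin n)) :
    appX X f (gen X i) = (SheafOfModules.freeHomEquiv M f i).1 (op X) := rfl

/-- The morphism with given values on the generators. -/
def ofVals (M : ModSite.Mod O) (m : ULift.{u} (Fin n) → M.val.obj (op X)) : P O n ⟶ M :=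
  (SheafOfModules.freeHomEquiv M).symm fun i => sec hX M (m i)

theorem ofVals_gen (M : ModSite.Mod O) (m : ULift.{u} (Fin n) → M.val.obj (op X))
    (i : ULift.{u} (Fin n)) : appX X (ofVals hX M m) (gen X i) = m i := by
  rw [appX_gen, ofVals, Equiv.apply_symm_apply]
  exact sec_val hX M (m i)

include hX in
theorem hom_ext_gen {M : ModSite.Mod O} {f g : P O n ⟶ M}
    (h : ∀ i, appX X f (gen X i) = appX X g (gen X i)) : f = g :=
  (SheafOfModules.freeHomEquiv M).injective (funext fun i => sections_ext hX _ _ (h i))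

variable (O X) in
/-- Evaluation at `X` is additive. -/
def appHom (M N : ModSite.Mod O) : (M ⟶ N) →+ (M.val.obj (op X) →ₗ[(R0 O X)] N.val.obj (op X)) :=
  AddMonoidHom.mk' (fun f => appX X f) fun _ _ => rfl

/-- The projections. -/
def proj (i : ULift.{u} (Fin n)) : P O n ⟶ SheafOfModules.unit (ModSite.ringSh O) :=
  ofVals hX _ fun j => (if j = i then 1 else 0 : (R0 O X))

theorem appX_ι (i : ULift.{u} (Fin n)) (r : (R0 O X)) :
    appX X (SheafOfModules.ιFree (R := ModSite.ringSh O) i) r = r • gen X i := by
  have h : appX X (SheafOfModules.ιFree (R := ModSite.ringSh O) i) (1 : (R0 O X)) = gen X i := by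
    refine Eq.trans ?_ (congrArg (fun q => ((SheafOfModules.freeHomEquiv (P O n)) q i).1 (op X)) rfl)
    rfl
  rw [← h, ← map_smul]
  exact congrArg _ (mul_one r).symm

/-- The coordinate functions. -/
def pr (i : ULift.{u} (Fin n)) : (P O n).val.obj (op X) →ₗ[(R0 O X)] (R0 O X) := appX X (proj hX i)

theorem pr_gen (i j : ULift.{u} (Fin n)) :
    pr hX (O := O) i (gen X j) = if j = i then 1 else 0 :=
  ofVals_gen hX _ _ j

theorem decomp (y : (P O n).val.obj (op X)) :
    ∑ i, pr hX i y • gen X i = y := by
  classical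
  have e : (∑ i, proj hX i ≫ SheafOfModules.ιFree (R := ModSite.ringSh O) i) = 𝟙 (P O n) := by
    refine hom_ext_gen hX fun j => ?_
    change appHom O X _ _ (∑ i, _) (gen X j) = gen X j
    rw [map_sum, LinearMap.sum_apply, Finset.sum_eq_single j]
    · change appX X _ (appX X (proj hX j) (gen X j)) = _
      rw [proj, ofVals_gen, if_pos rfl, appX_ι, one_smul]
    · intro i _ hi
      change appX X _ (appX X (proj hX i) (gen X j)) = 0
      rw [proj, ofVals_gen, if_neg (Ne.symm hi), map_zero]
    · intro h
      exact absurd (Finset.mem_univ j) h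
  have h := congrArg (fun f => appHom O X _ _ f y) e
  rw [map_sum, LinearMap.sum_apply] at h
  refine Eq.trans (Finset.sum_congr rfl fun i _ => ?_) h
  exact (appX_ι i _).symm

/-- Coordinates. -/
def coords : (P O n).val.obj (op X) →ₗ[(R0 O X)] (ULift.{u} (Fin n) → (R0 O X)) :=
  LinearMap.pi fun i => pr hX i

theorem bijective_coords : Function.Bijective (coords hX (n := n) (O := O)) := by
  classical
  refine ⟨fun y z h => ?_, fun c => ⟨∑ i, c i • gen X i, funext fun j => ?_⟩⟩
  · rw [← decomp hX y, ← decomp hX z]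
    exact Finset.sum_congr rfl fun i _ => congrArg (· • gen X i) (congrFun h i)
  · change pr hX j (∑ i, c i • gen X i) = c j
    rw [map_sum, Finset.sum_eq_single j]
    · rw [map_smul, pr_gen, if_pos rfl]
      exact mul_one (c j)
    · intro i _ hi
      rw [map_smul, pr_gen, if_neg hi, smul_zero]
    · intro h
      exact absurd (Finset.mem_univ j) h

/-- The value at `X` of the free module. -/
def coordEquiv : (P O n).val.obj (op X) ≃ₗ[(R0 O X)] (ULift.{u} (Fin n) → (R0 O X)) :=
  LinearEquiv.ofBijective (coords hX) (bijective_coords hX)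

include hX in
theorem hom_eq_on_gen {M : Type u} [AddCommGroup M] [Module (R0 O X) M]
    {f g : (P O n).val.obj (op X) →ₗ[(R0 O X)] M} (h : ∀ i, f (gen X i) = g (gen X i)) : f = g :=
  LinearMap.ext fun y => by
    rw [← decomp hX y, map_sum, map_sum]
    exact Finset.sum_congr rfl fun i _ => by rw [map_smul, map_smul, h i]

include hX in
theorem bijective_app {E E' : ModSite.Mod O} (hE : DCoh.IsFinFreeSummandMod (ModSite.ringSh O) E) :
    Function.Bijective (fun φ : E ⟶ E' => φ.val.app (op X)) := by
  obtain ⟨n, i, p, hip⟩ := hE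
  have hXip : ∀ x : E.val.obj (op X), appX X p (appX X i x) = x := fun x => by
    rw [← appX_comp, hip]; rfl
  refine ⟨fun φ ψ h => ?_, fun h => ?_⟩
  · have e : p ≫ φ = p ≫ ψ := hom_ext_gen hX fun k =>
      ConcreteCategory.congr_hom (h : φ.val.app (op X) = ψ.val.app (op X)) (appX X p (gen X k))
    rw [← Category.id_comp φ, ← Category.id_comp ψ, ← hip, Category.assoc, Category.assoc, e]
  · let q : P O n ⟶ E' := ofVals hX E' fun k => h.hom (appX X p (gen X k))
    have hq : appX X q = h.hom.comp (appX X p) := hom_eq_on_gen hX fun k => ofVals_gen hX _ _ k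
    refine ⟨i ≫ q, ModuleCat.hom_ext (LinearMap.ext fun x => ?_)⟩
    change appX X q (appX X i x) = h.hom x
    rw [hq]
    exact congrArg h.hom (hXip x)

include hX in
theorem finite_projective_app {E : ModSite.Mod O} (hE : DCoh.IsFinFreeSummandMod (ModSite.ringSh O) E) :
    Module.Finite (R0 O X) (E.val.obj (op X)) ∧ Module.Projective (R0 O X) (E.val.obj (op X)) := by
  obtain ⟨n, i, p, hip⟩ := hE
  have hXip : ∀ x : E.val.obj (op X), appX X p (appX X i x) = x := fun x => by
    rw [← appX_comp, hip]; rfl
  let b : (ULift.{u} (Fin n) → (R0 O X)) →ₗ[(R0 O X)] E.val.obj (op X) :=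
    (appX X p).comp (coordEquiv hX).symm.toLinearMap
  let a : E.val.obj (op X) →ₗ[(R0 O X)] (ULift.{u} (Fin n) → (R0 O X)) :=
    (coordEquiv hX).toLinearMap.comp (appX X i)
  have hba : b.comp a = LinearMap.id := LinearMap.ext fun x => by
    simp only [a, b, LinearMap.comp_apply, LinearEquiv.coe_coe, LinearEquiv.symm_apply_apply,
      hXip, LinearMap.id_apply]
  exact ⟨Module.Finite.of_surjective b fun x => ⟨a x, LinearMap.congr_fun hba x⟩,
    Module.Projective.of_split a b hba⟩

include hX in
theorem exists_summand (M : ModuleCat.{u} (R0 O X)) [Module.Finite (R0 O X) M] [Module.Projective (R0 O X) M] :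
    ∃ E : ModSite.Mod O, DCoh.IsFinFreeSummandMod (ModSite.ringSh O) E ∧
      Nonempty (E.val.obj (op X) ≅ M) := by
  obtain ⟨n, f, hf⟩ := Module.Finite.exists_fin' (R0 O X) M
  obtain ⟨g, hg⟩ := Module.projective_lifting_property f LinearMap.id hf
  let σ : (Fin n → (R0 O X)) ≃ₗ[(R0 O X)] (ULift.{u} (Fin n) → (R0 O X)) :=
    LinearEquiv.funCongrLeft (R0 O X) (R0 O X) Equiv.ulift
  obtain ⟨π, ι, hπι⟩ : ∃ (π : (P O n).val.obj (op X) →ₗ[(R0 O X)] M)
      (ι : M →ₗ[(R0 O X)] (P O n).val.obj (op X)), ∀ x, π (ι x) = x := by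
    let π : (P O n).val.obj (op X) →ₗ[(R0 O X)] M :=
      f.comp (σ.symm.toLinearMap.comp (coordEquiv hX).toLinearMap)
    let ι : M →ₗ[(R0 O X)] (P O n).val.obj (op X) :=
      ((coordEquiv hX).symm.toLinearMap.comp σ.toLinearMap).comp g
    refine ⟨π, ι, fun x => ?_⟩
    simp only [π, ι, LinearMap.comp_apply, LinearEquiv.coe_coe, LinearEquiv.apply_symm_apply,
      LinearEquiv.symm_apply_apply]
    exact LinearMap.congr_fun hg x
  let e : P O n ⟶ P O n := ofVals hX _ fun k => ι (π (gen X k))
  have heX : appX X e = ι.comp π := hom_eq_on_gen hX fun k => ofVals_gen hX _ _ k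
  have hee : e ≫ e = e := hom_ext_gen hX fun k => by
    rw [appX_comp, heX, LinearMap.comp_apply, LinearMap.comp_apply, hπι]
  obtain ⟨E, i, p, hip, hpi⟩ := IsIdempotentComplete.idempotents_split (P O n) e hee
  refine ⟨E, ⟨n, i, p, hip⟩, ⟨?_⟩⟩
  refine (LinearEquiv.ofLinearMap (π.comp (appX X i)) ((appX X p).comp ι) ?_ ?_).toModuleIso
  · refine LinearMap.ext fun x => ?_
    change π (appX X i (appX X p (ι x))) = x
    rw [← appX_comp, hpi, heX, LinearMap.comp_apply, hπι, hπι]
  · refine LinearMap.ext fun x => ?_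
    change appX X p (ι (π (appX X i x))) = x
    rw [← LinearMap.comp_apply ι π, ← heX, ← hpi, appX_comp]
    have hh : ∀ y, appX X p (appX X i y) = y := fun y => by rw [← appX_comp, hip]; rfl
    rw [hh, hh]

end Groth.L10.GlobalSummand
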